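import Mathlib
import Cfsg.Agent.OddHalf.D4.O2.Base
import Cfsg.Agent.OddHalf.D4.AutOne
import Cfsg.Agent.TwoFusion.StronglyEmbeddedBasic

/-!
# ODD, D4, rows `Ω^±_2n(2)`: the facts `AutFacts (E Q)`

`autFacts`: over the field with two elements, in dimension at least 8, if every automorphism of `E Q` is conjugation
by an isometry and `O(C(a)) = 1` for the involutions `a`.
-/

set_option autoImplicit false

namespace Cfsg.Agent.OddHalf.D4.Orth2.Facts

open QuadraticMap Cfsg.Agent.LieClassical.OrthCore Cfsg.Agent.LieClassical.OrthTrans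
  Cfsg.Agent.ClassicalGeometry.OrthAutBasic Cfsg.Agent.ClassicalGeometry.OrthAutRoot
  Cfsg.Agent.ClassicalGeometry.OrthAutSylow Cfsg.Agent.OddHalf.D4.O2

variable {F V : Type*} [Field F] [AddCommGroup V] [Module F V] {Q : QuadraticForm F V}

theorem charP (h2 : Two F) : CharP F 2 := CharTwo.of_one_ne_zero_of_two_eq_zero one_ne_zero h2.two'

theorem finite_E [Finite F] [Module.Finite F V] : Finite ↥(E Q) := by
  have hfin : Finite V := Module.finite_of_finite F
  have hfinE : Finite (V ≃ₗ[F] V) := Finite.of_injective (fun g => (g : V → V)) DFunLike.coe_injective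
  infer_instance

/-- A singular line with a nonsingular vector orthogonal to `x`. -/
theorem exists_data [Finite F] (hB : Big Q) : ∃ x z v : V, Ln Q x z ∧ polar Q x v = 0 ∧ Q v = 1 := by
  obtain ⟨x, y, hy⟩ := hB.good.exists_hyp
  obtain ⟨z, w, hzw, hxz, hxw, hyz, hyw⟩ := hB.good.exists_hyp2 hy
  refine ⟨x, z, z + w, ⟨hy.left, hzw.left, hxz, hy.left_ne, ?_⟩, ?_, ?_⟩
  · intro c hcc
    have := hzw.pair
    rw [hcc, polar_smul_left, hxw, smul_zero] at this
    exact zero_ne_one this
  · rw [polar_add_right, hxz, hxw, add_zero]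
  · rw [Q_add, hzw.left, hzw.right, hzw.pair]; simp

/-- An isometry commuting with all `T x w` is one of them. -/
theorem eq_T_of_comm (h2 : Two F) [Finite F] (hB : Big Q) {g : V ≃ₗ[F] V} (hg : g ∈ O Q) {x : V}
    (hx : Q x = 0) (hx0 : x ≠ 0) (h : ∀ w, polar Q x w = 0 → g * T Q x w * g⁻¹ = T Q x w) :
    ∃ w0, polar Q x w0 = 0 ∧ g = T Q x w0 := by
  have hgx : g x = x := by
    obtain ⟨c, hc⟩ := eq_smul_of_fix_rad hB hx hx0 (v := g x) (by
      intro w hw
      have h1 : T Q x w * g = g * T Q x w := by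
        rw [← mul_inv_eq_iff_eq_mul, mul_assoc]
        have h3 := h w hw
        have h4 : T Q x w = g⁻¹ * T Q x w * g := by
          calc T Q x w = g⁻¹ * (g * T Q x w * g⁻¹) * g := by group
            _ = _ := by rw [h3]
        calc T Q x w * (g * (T Q x w)⁻¹) = (g * T Q x w * g⁻¹) * (g * (T Q x w)⁻¹) := by rw [h3]
          _ = g := by group
      have h5 : (T Q x w * g) x = (g * T Q x w) x := by rw [h1]
      have h6 : T Q x w (g x) = g (T Q x w x) := h5
      rw [h6, T_apply_self hx hw])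
    rcases h2 c with h3 | h3
    · exfalso
      rw [h3, zero_smul] at hc
      exact hx0 ((LinearEquiv.map_eq_zero_iff g).1 hc)
    · rw [hc, h3, one_smul]
  refine eq_T_of_comm_rad hB hg hx hx0 hgx fun w hw => ?_
  rw [← T_conj hg]
  exact h w hw

/-- `T x u`, `Q u = 0`, and `T x v`, `Q v = 1`, are not conjugate. -/
theorem not_conj [Finite F] (hB : Big Q) {x z v : V} (h : Ln Q x z) (hv : polar Q x v = 0) (hv1 : Q v = 1)
    {g : V ≃ₗ[F] V} (hg : g ∈ O Q) (e : g * T Q x z * g⁻¹ = T Q x v) : False := by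
  obtain ⟨y, hy⟩ := hB.nondeg.exists_polar_eq h.ne 1
  have h1 : Q (T Q x v y - y) = 1 := by
    rw [T_apply h.qu hv, hy]
    have e1 : y + (1 : F) • v - polar Q v y • x - (Q v * 1) • x - y = v + (-(polar Q v y) - Q v) • x := by module
    rw [e1, Q_add, QuadraticMap.map_smul, polar_smul_right, h.qu, polar_comm Q v x, hv, hv1]
    simp
  have h3 : Q (T Q x v y - y) = 0 := by
    rw [← e]
    have e1 : (g * T Q x z * g⁻¹) y - y = g (T Q x z (g⁻¹ y) - g⁻¹ y) := by
      have e2 : g (g⁻¹ y) = y := g.apply_symm_apply y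
      rw [map_sub, e2]
      rfl
    rw [e1, mem_O.1 hg, T_apply h.qu h.perp, h.qw]
    have e3 : ∀ t : V, t + polar Q x t • z - polar Q z t • x - (0 * polar Q x t) • x - t =
        polar Q x t • z + (-(polar Q z t)) • x := fun t => by module
    rw [e3, Q_add, QuadraticMap.map_smul, QuadraticMap.map_smul, polar_smul_right, polar_smul_left, h.qu, h.qw,
      h.perp']
    simp
  rw [h1] at h3
  exact one_ne_zero h3

/-- **The facts of D4 for `Ω^±_2n(2)`.** -/
theorem autFacts (h2 : Two F) (hQ : Nondeg Q) (hd : 8 ≤ Module.finrank F V)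
    (haut : ∀ φ : MulAut ↥(E Q), ∃ g ∈ O Q, ∀ x : ↥(E Q), ((φ x : ↥(E Q)) : V ≃ₗ[F] V) = g * x * g⁻¹)
    (hbal : ∀ a : ↥(E Q), orderOf a = 2 → centralizerPPrimeCore 2 a = ⊥) : AutFacts ↥(E Q) := by
  have hfF : Finite F := h2.finite
  have hfd : FiniteDimensional F V := Module.finite_of_finrank_pos (by omega)
  have hfE : Finite ↥(E Q) := finite_E
  have hp : Fact (Nat.Prime 2) := ⟨Nat.prime_two⟩
  have hch : CharP F 2 := charP h2
  have hB : Big Q := ⟨hQ, by omega⟩
  obtain ⟨x, u, v, h, hv, hv1⟩ := exists_data hB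
  obtain ⟨P, hP1, hP2, hP3, hP4⟩ := exists_sylow hB h 2
  refine AutOne.of_one P ?_ ?_ hbal ?_
  · -- (F1)
    rintro φ - hφ
    obtain ⟨g, hg, hgφ⟩ := haut φ
    obtain ⟨w0, hw0, e⟩ := eq_T_of_comm h2 hB hg h.qu h.ne (by
      intro w hw
      have h3 := hφ _ (hP3 w hw)
      have h4 := hgφ ⟨T Q x w, T_mem_E x w⟩
      rw [h3] at h4
      exact h4.symm)
    refine ⟨⟨T Q x w0, T_mem_E x w0⟩, hP3 w0 hw0, ?_⟩
    ext y : 1
    apply Subtype.ext
    rw [hgφ y, e]
    rfl
  · -- (F5)
    have key : ∀ s ∈ P, orderOf s = 2 → (∀ t ∈ P, t * s = s * t) → (s : V ≃ₗ[F] V) = T Q x u := by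
      intro s hs hs2 hsc
      have hsc' : ∀ t ∈ P, (t : V ≃ₗ[F] V) * s = s * t := fun t ht => congrArg Subtype.val (hsc t ht)
      have hsO : (s : V ≃ₗ[F] V) ∈ O Q := E_le_O s.2
      obtain ⟨w0, hw0, e⟩ := eq_T_of_comm h2 hB hsO h.qu h.ne (by
        intro w hw
        have h3 := hsc' _ (hP3 w hw)
        have h4 : T Q x w * s = s * T Q x w := h3
        rw [← h4]; group)
      have hL : w0 ∈ L F x u := by
        apply mem_L_of_comm hB h hw0
        intro z hxz huz
        have e1 : T Q u z x = x := T_fix h.perp' (by rw [polar_comm]; exact hxz)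
        have e2 := T_conj (T_mem_O (Q := Q) u z) x w0
        rw [e1, ← e] at e2
        have e3 : T Q u z * (s : V ≃ₗ[F] V) = s * T Q u z := hsc' _ (hP4 z hxz huz)
        rw [← e2, e3, ← e]
        group
      obtain ⟨a, c, hac⟩ := mem_L.1 hL
      have hcu : polar Q x (c • u) = 0 := by rw [polar_smul_right, h.perp, smul_zero]
      have e4 : (s : V ≃ₗ[F] V) = T Q x (c • u) := by
        rw [e, ← hac, add_comm, T_add_smul h.qu hcu]
      rcases h2 c with hc | hc
      · exfalso
        rw [hc, zero_smul, T_zero_right] at e4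
        have h5 : s = 1 := Subtype.ext e4
        rw [h5, orderOf_one] at hs2
        omega
      · rw [e4, hc, one_smul]
    intro s hs hs2 hsc s' hs' hs2' hsc'
    apply Subtype.ext
    rw [key s hs hs2 hsc, key s' hs' hs2' hsc']
  · -- no strongly embedded subgroup
    intro H hH
    have ho : ∀ w, polar Q x w = 0 → T Q x w ≠ 1 → orderOf (⟨T Q x w, T_mem_E x w⟩ : ↥(E Q)) = 2 := by
      intro w hw hne
      apply orderOf_eq_prime
      · apply Subtype.ext
        show T Q x w ^ 2 = 1
        rw [pow_two, h2.T_sq]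
      · intro h3
        exact hne (congrArg Subtype.val h3)
    have h3 : T Q x v ≠ 1 := by
      intro h3
      obtain ⟨y, hy⟩ := hQ.exists_polar_eq h.ne 1
      have h4 : Q (T Q x v y - y) = 1 := by
        rw [T_apply h.qu hv, hy]
        have e1 : y + (1 : F) • v - polar Q v y • x - (Q v * 1) • x - y = v + (-(polar Q v y) - Q v) • x := by
          module
        rw [e1, Q_add, QuadraticMap.map_smul, polar_smul_right, h.qu, polar_comm Q v x, hv, hv1]
        simp
      rw [h3] at h4
      have h5 : (1 : V ≃ₗ[F] V) y - y = 0 := sub_self y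
      rw [h5, QuadraticMap.map_zero] at h4
      exact zero_ne_one h4
    have h4 : T Q x u ≠ 1 := T_ne_one hQ h
    obtain ⟨g, hg⟩ := isConj_iff.1 (TwoFusion.StronglyEmbeddedBasic.isConj_of_involutions hH _ _
      (ho u h.perp h4) (ho v hv h3))
    exact not_conj hB h hv hv1 (E_le_O g.2) (congrArg Subtype.val hg)

end Cfsg.Agent.OddHalf.D4.Orth2.Facts
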