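import Mathlib
import Cfsg.Agent.LieClassical.OrthFinite

/-!
# ODD, D4, `Ω^±_{2n}(2)`: linear algebra over `F_2`

`Two Q`: `Q` is a nondegenerate quadratic form over a field with two elements, in dimension at least 8, and the
elements of `E Q` have even rank. `S Q u w`: the Siegel element (`1` if it is not defined).
-/

set_option autoImplicit false

namespace Cfsg.Agent.OddHalf.D4.Orth2

open QuadraticMap
open Cfsg.Agent.LieClassical.OrthCore Cfsg.Agent.LieClassical.OrthTrans Cfsg.Agent.LieClassical.OrthFinite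

variable {F V : Type*} [Field F] [AddCommGroup V] [Module F V]

/-- `g - 1` as a linear map -/
def dl (g : V ≃ₗ[F] V) : V →ₗ[F] V := (g : V →ₗ[F] V) - LinearMap.id

theorem dl_apply (g : V ≃ₗ[F] V) (x : V) : dl g x = g x - x := rfl

/-- The standing hypotheses. -/
structure Two (Q : QuadraticForm F V) : Prop where
  nondeg : Nondeg Q
  f01 : ∀ c : F, c = 0 ∨ c = 1
  dim : 8 ≤ Module.finrank F V
  dick : ∀ g ∈ E Q, Even (Module.finrank F (LinearMap.range (dl g)))

variable {Q : QuadraticForm F V}

namespace Two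

theorem two (T : Two Q) : (2 : F) = 0 := by
  rcases T.f01 2 with h | h
  · exact h
  · exfalso
    have h1 : (1 : F) = 0 := by linear_combination h
    exact one_ne_zero h1

theorem finite (T : Two Q) : Finite F := by
  rw [← Set.finite_univ_iff]
  refine (Set.toFinite ({0, 1} : Set F)).subset ?_
  intro c _
  rcases T.f01 c with h | h
  · exact Or.inl h
  · exact Or.inr h

theorem fin (T : Two Q) : Module.Finite F V := Module.finite_of_finrank_pos (by have := T.dim; omega)

theorem good (T : Two Q) : Good Q :=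
  have := T.finite
  good_of_finite T.nondeg (by have := T.dim; omega)

theorem add_self (T : Two Q) (x : V) : x + x = 0 := by
  rw [← two_smul F x, T.two, zero_smul]

theorem neg_eq (T : Two Q) (x : V) : -x = x := (eq_neg_of_add_eq_zero_left (T.add_self x)).symm

theorem sub_eq (T : Two Q) (x y : V) : x - y = x + y := by rw [sub_eq_add_neg, T.neg_eq]

theorem negF (T : Two Q) (c : F) : -c = c := by
  have h : c + c = 0 := by rw [← two_mul, T.two, zero_mul]
  exact (eq_neg_of_add_eq_zero_left h).symm

theorem addF (T : Two Q) (c : F) : c + c = 0 := by rw [← two_mul, T.two, zero_mul]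

theorem sq (T : Two Q) (c : F) : c * c = c := by
  rcases T.f01 c with h | h <;> rw [h] <;> simp

theorem eq_of_add (T : Two Q) {x y : V} (h : x + y = 0) : x = y := by
  rw [eq_neg_of_add_eq_zero_left h, T.neg_eq]

theorem eqF_of_add (T : Two Q) {x y : F} (h : x + y = 0) : x = y := by
  rw [eq_neg_of_add_eq_zero_left h, T.negF]

theorem polar_self (T : Two Q) (x : V) : polar Q x x = 0 := by rw [polar_self', T.two, zero_mul]

theorem ne_zero {c : F} (T : Two Q) (h : c ≠ 0) : c = 1 := (T.f01 c).resolve_left h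

theorem smul_add_self (T : Two Q) (c : F) (x : V) : c • x + c • x = 0 := T.add_self _

end Two

/-! ### Siegel elements -/

open Classical in
/-- The Siegel element `S Q u w`; `1` if `u` is not singular or `w` not orthogonal to `u`. -/
noncomputable def S (Q : QuadraticForm F V) (u w : V) : V ≃ₗ[F] V :=
  if h : Q u = 0 ∧ polar Q u w = 0 then siegel Q u w h.1 h.2 else 1

theorem S_def {u w : V} (hu : Q u = 0) (hw : polar Q u w = 0) : S Q u w = siegel Q u w hu hw := by
  rw [S, dif_pos ⟨hu, hw⟩]

theorem S_mem (u w : V) : S Q u w ∈ E Q := by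
  unfold S
  split_ifs with h
  · exact siegel_mem_E _ _
  · exact one_mem _

theorem S_memO (u w : V) : S Q u w ∈ O Q := E_le_O (S_mem u w)

theorem S_apply (T : Two Q) {u w : V} (hu : Q u = 0) (hw : polar Q u w = 0) (v : V) :
    S Q u w v = v + polar Q u v • w + polar Q w v • u + (Q w * polar Q u v) • u := by
  rw [S_def hu hw, siegel_apply, T.sub_eq, T.sub_eq]

theorem mulG_apply (g h : V ≃ₗ[F] V) (v : V) : (g * h) v = g (h v) := rfl

theorem one_apply' (v : V) : (1 : V ≃ₗ[F] V) v = v := rfl

theorem inv_apply_self (g : V ≃ₗ[F] V) (v : V) : g⁻¹ (g v) = v := g.symm_apply_apply v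

theorem apply_inv_self (g : V ≃ₗ[F] V) (v : V) : g (g⁻¹ v) = v := g.apply_symm_apply v

theorem S_conj {g : V ≃ₗ[F] V} (hg : g ∈ O Q) (u w : V) : g * S Q u w * g⁻¹ = S Q (g u) (g w) := by
  by_cases h : Q u = 0 ∧ polar Q u w = 0
  · have h1 : Q (g u) = 0 := by rw [mem_O.1 hg, h.1]
    have h2 : polar Q (g u) (g w) = 0 := by rw [polar_map hg, h.2]
    rw [S_def h.1 h.2, S_def h1 h2]
    exact siegel_conj hg h.1 h.2 h1 h2
  · have h' : ¬ (Q (g u) = 0 ∧ polar Q (g u) (g w) = 0) := by
      rwa [mem_O.1 hg, polar_map hg]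
    rw [S, S, dif_neg h, dif_neg h']
    group

theorem S_mul {u w w' : V} (hu : Q u = 0) (hw : polar Q u w = 0) (hw' : polar Q u w' = 0) :
    S Q u w * S Q u w' = S Q u (w + w') := by
  have h : polar Q u (w + w') = 0 := by rw [polar_add_right, hw, hw', add_zero]
  rw [S_def hu hw, S_def hu hw', S_def hu h]
  exact siegel_mul hu hw hw' h

theorem S_zero (u : V) : S Q u 0 = 1 := by
  by_cases hu : Q u = 0
  · rw [S_def hu (polar_zero_right _ _)]
    ext v
    rw [siegel_apply]
    simp
  · rw [S, dif_neg (fun h => hu h.1)]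

theorem S_sq (T : Two Q) (u w : V) : S Q u w * S Q u w = 1 := by
  by_cases h : Q u = 0 ∧ polar Q u w = 0
  · rw [S_mul h.1 h.2 h.2, T.add_self, S_zero]
  · rw [S, dif_neg h, one_mul]

theorem S_inv (T : Two Q) (u w : V) : (S Q u w)⁻¹ = S Q u w := inv_eq_of_mul_eq_one_left (S_sq T u w)

/-- `S u (w + u) = S u w` -/
theorem S_add_self (T : Two Q) (u w : V) : S Q u (w + u) = S Q u w := by
  by_cases h : Q u = 0 ∧ polar Q u w = 0
  · have h1 : polar Q u (w + u) = 0 := by rw [polar_add_right, h.2, T.polar_self, add_zero]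
    ext v
    rw [S_apply T h.1 h.2, S_apply T h.1 h1, polar_add_left, Q_add, h.1, polar_comm Q w u, h.2]
    simp only [add_zero, smul_add, add_smul]
    have h2 := T.smul_add_self (polar Q u v) u
    calc v + (polar Q u v • w + polar Q u v • u) + (polar Q w v • u + polar Q u v • u) + (Q w * polar Q u v) • u
        = v + polar Q u v • w + polar Q w v • u + (Q w * polar Q u v) • u + (polar Q u v • u + polar Q u v • u) := by
          abel
      _ = _ := by rw [h2, add_zero]
  · have h1 : ¬ (Q u = 0 ∧ polar Q u (w + u) = 0) := by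
      rw [polar_add_right, T.polar_self, add_zero]; exact h
    rw [S, S, dif_neg h, dif_neg h1]

theorem S_self (T : Two Q) (u : V) : S Q u u = 1 := by
  have := S_add_self T u (0 : V)
  rwa [zero_add, S_zero] at this

/-- symmetry for totally singular lines -/
theorem S_comm (T : Two Q) {u w : V} (hu : Q u = 0) (hw : Q w = 0) (h : polar Q u w = 0) :
    S Q u w = S Q w u := by
  ext v
  rw [S_apply T hu h, S_apply T hw (by rw [polar_comm]; exact h), hu, hw]
  simp only [zero_mul, zero_smul, add_zero]
  abel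

/-- If `S u w = 1` then `w ∈ {0, u}`. -/
theorem eq_of_S_eq_one (T : Two Q) {u w : V} (hu : Q u = 0) (hu0 : u ≠ 0) (hw : polar Q u w = 0)
    (h : S Q u w = 1) : w = 0 ∨ w = u := by
  obtain ⟨y, hy⟩ := T.nondeg.exists_polar_eq hu0 1
  have h1 := congrArg (fun g : V ≃ₗ[F] V => g y) h
  simp only [S_apply T hu hw, hy, one_smul, mul_one, one_apply'] at h1
  have h2 : w + (polar Q w y • u + Q w • u) = 0 := by
    have : y + (w + (polar Q w y • u + Q w • u)) = y + 0 := by
      rw [add_zero]
      calc y + (w + (polar Q w y • u + Q w • u)) = y + w + polar Q w y • u + Q w • u := by abel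
        _ = y := h1
    exact add_left_cancel this
  have h3 := T.eq_of_add h2
  rw [← add_smul] at h3
  rcases T.f01 (polar Q w y + Q w) with h4 | h4
  · left; rw [h3, h4, zero_smul]
  · right; rw [h3, h4, one_smul]

theorem mem_pair_iff (T : Two Q) {a b : F} {u w : V} :
    a • u + b • w = 0 ∨ a • u + b • w = u ∨ a • u + b • w = w ∨ a • u + b • w = u + w := by
  rcases T.f01 a with ha | ha <;> rcases T.f01 b with hb | hb <;> rw [ha, hb] <;> simp

/-- separation of independent vectors -/
theorem exists_sep' (T : Two Q) {u w : V} (hu : u ≠ 0) (hne : u ≠ w) :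
    ∃ y, polar Q w y = 0 ∧ polar Q u y = 1 := by
  refine exists_sep T.nondeg fun c => ?_
  rcases T.f01 c with h | h
  · rw [h, zero_smul]; exact hu
  · rw [h, one_smul]; exact hne

end Cfsg.Agent.OddHalf.D4.Orth2
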