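import Mathlib
import Cfsg.Agent.OddHalf.D4.Orth2.Lin

/-!
# ODD, D4, `Ω^±_{2n}(2)`: involutions

`w` an involution of `O Q`; `w x + x`; the linear functional `x ↦ Q (w x + x)`; transvections; involutions of
rank 2 are Siegel elements.
-/

set_option autoImplicit false

namespace Cfsg.Agent.OddHalf.D4.Orth2

open QuadraticMap
open Cfsg.Agent.LieClassical.OrthCore Cfsg.Agent.LieClassical.OrthTrans Cfsg.Agent.LieClassical.OrthFinite

variable {F V : Type*} [Field F] [AddCommGroup V] [Module F V] {Q : QuadraticForm F V}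

theorem ww_apply {w : V ≃ₗ[F] V} (ww : w * w = 1) (x : V) : w (w x) = x := by
  have := congrArg (fun g : V ≃ₗ[F] V => g x) ww
  exact this

theorem delta_fix {w : V ≃ₗ[F] V} (ww : w * w = 1) (x : V) : w (w x + x) = w x + x := by
  rw [map_add, ww_apply ww, add_comm]

theorem polar_delta_symm {w : V ≃ₗ[F] V} (hw : w ∈ O Q) (ww : w * w = 1) (x y : V) :
    polar Q (w x + x) y = polar Q x (w y + y) := by
  rw [polar_add_left, polar_add_right]
  have h : polar Q (w x) y = polar Q x (w y) := by
    rw [← polar_map hw (w x) y, ww_apply ww]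
  rw [h]

theorem polar_delta (T : Two Q) {w : V ≃ₗ[F] V} (hw : w ∈ O Q) (ww : w * w = 1) {x v : V} (hv : w v = v) :
    polar Q (w x + x) v = 0 := by
  rw [polar_delta_symm hw ww, hv, T.add_self, polar_zero_right]

theorem polar_delta_delta (T : Two Q) {w : V ≃ₗ[F] V} (hw : w ∈ O Q) (ww : w * w = 1) (x y : V) :
    polar Q (w x + x) (w y + y) = 0 := polar_delta T hw ww (delta_fix ww y)

theorem Q_delta (T : Two Q) {w : V ≃ₗ[F] V} (hw : w ∈ O Q) (x : V) :
    polar Q (w x + x) x = Q (w x + x) := by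
  rw [polar_add_left, T.polar_self, add_zero, Q_add, mem_O.1 hw, T.addF, zero_add]

theorem Q_delta' (T : Two Q) {w : V ≃ₗ[F] V} (hw : w ∈ O Q) (x : V) :
    polar Q x (w x + x) = Q (w x + x) := by rw [polar_comm, Q_delta T hw]

/-- The functional `x ↦ Q (w x + x)`. -/
noncomputable def lam (T : Two Q) {w : V ≃ₗ[F] V} (hw : w ∈ O Q) (ww : w * w = 1) : V →ₗ[F] F where
  toFun x := Q (w x + x)
  map_add' x y := by
    have e : w (x + y) + (x + y) = (w x + x) + (w y + y) := by rw [map_add]; abel
    rw [e, Q_add, polar_delta_delta T hw ww, add_zero]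
  map_smul' c x := by
    have e : w (c • x) + c • x = c • (w x + x) := by rw [map_smul, smul_add]
    rw [e, QuadraticMap.map_smul, T.sq, RingHom.id_apply]

theorem lam_apply (T : Two Q) {w : V ≃ₗ[F] V} (hw : w ∈ O Q) (ww : w * w = 1) (x : V) :
    lam T hw ww x = Q (w x + x) := rfl

/-- a vector orthogonal to the fixed space is fixed -/
theorem fix_of_perp (T : Two Q) {w : V ≃ₗ[F] V} (hw : w ∈ O Q) (ww : w * w = 1) {z : V}
    (hz : ∀ v, w v = v → polar Q z v = 0) : w z = z := by
  apply T.eq_of_add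
  apply T.nondeg
  intro y
  rw [polar_delta_symm hw ww]
  exact hz _ (delta_fix ww y)

/-- an isometry fixing `V^w` pointwise is an involution -/
theorem sq_of_fix (T : Two Q) {w x : V ≃ₗ[F] V} (hw : w ∈ O Q) (ww : w * w = 1) (hx : x ∈ O Q)
    (hfix : ∀ v, w v = v → x v = v) : x * x = 1 := by
  ext y
  show x (x y) = y
  have h1 : x (x y + y) = x y + y := by
    apply hfix
    apply fix_of_perp T hw ww
    intro v hv
    rw [polar_add_left]
    have h2 : polar Q (x y) v = polar Q y v := by
      conv_lhs => rw [← hfix v hv]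
      exact polar_map hx _ _
    rw [h2, T.addF]
  rw [map_add] at h1
  have h3 : x (x y) + x y = y + x y := by rw [h1, add_comm]
  exact add_right_cancel h3

/-! ### Transvections -/

/-- `g` is a transvection. -/
def Tv (Q : QuadraticForm F V) (g : V ≃ₗ[F] V) : Prop := ∃ p, Q p = 1 ∧ ∀ x, g x = x + polar Q p x • p

theorem finrank_le_one {g : V ≃ₗ[F] V} {p : V} {f : V → F} (h : ∀ x, g x = x + f x • p) :
    Module.finrank F (LinearMap.range (dl g)) ≤ 1 := by
  have h1 : LinearMap.range (dl g) ≤ Submodule.span F {p} := by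
    rintro _ ⟨x, rfl⟩
    have e : dl g x = f x • p := by
      rw [dl_apply, h]; abel
    rw [e]
    exact Submodule.smul_mem _ _ (Submodule.mem_span_singleton_self p)
  exact (Submodule.finrank_mono h1).trans ((finrank_span_le_card _).trans (by simp))

theorem eq_one_of_rank (T : Two Q) {g : V ≃ₗ[F] V} (hg : g ∈ E Q) {p : V} {f : V → F}
    (h : ∀ x, g x = x + f x • p) : g = 1 := by
  have := T.fin
  have h1 := finrank_le_one h
  have h2 := T.dick g hg
  have h3 : Module.finrank F (LinearMap.range (dl g)) = 0 := by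
    rcases h2 with ⟨k, hk⟩
    omega
  have h4 : LinearMap.range (dl g) = ⊥ := Submodule.finrank_eq_zero.mp h3
  ext x
  have h5 : dl g x = 0 := by
    have : dl g x ∈ LinearMap.range (dl g) := ⟨x, rfl⟩
    rw [h4] at this
    exact this
  exact sub_eq_zero.mp h5

theorem Tv.ne_one (T : Two Q) {g : V ≃ₗ[F] V} (h : Tv Q g) : g ≠ 1 := by
  obtain ⟨p, hp, hg⟩ := h
  have hp0 : p ≠ 0 := by
    rintro rfl
    rw [QuadraticMap.map_zero] at hp
    exact zero_ne_one hp
  obtain ⟨y, hy⟩ := T.nondeg.exists_polar_eq hp0 1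
  rintro rfl
  have h1 := hg y
  rw [hy, one_smul, one_apply'] at h1
  exact hp0 (by simpa using h1.symm)

theorem Tv.notMem (T : Two Q) {g : V ≃ₗ[F] V} (h : Tv Q g) : g ∉ E Q := by
  intro hg
  obtain ⟨p, hp, hgx⟩ := id h
  exact h.ne_one T (eq_one_of_rank T hg hgx)

/-- An isometry fixing the kernel of a functional pointwise is `1` or a transvection. -/
theorem one_or_tv (T : Two Q) {g : V ≃ₗ[F] V} (hg : g ∈ O Q) (l : V →ₗ[F] F)
    (h : ∀ a, l a = 0 → g a = a) : g = 1 ∨ Tv Q g := by
  by_cases hall : ∀ x, g x = x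
  · left
    ext x
    exact hall x
  right
  push Not at hall
  obtain ⟨z, hz⟩ := hall
  have hlz : l z = 1 := T.ne_zero fun h0 => hz (h z h0)
  set p := g z + z with hp
  have hp0 : p ≠ 0 := fun h0 => hz (T.eq_of_add h0)
  have hgx : ∀ x, g x = x + l x • p := by
    intro x
    rcases T.f01 (l x) with hx | hx
    · rw [hx, zero_smul, add_zero, h x hx]
    · have h1 : l (x + z) = 0 := by rw [map_add, hx, hlz, T.addF]
      have h2 := h _ h1
      rw [map_add] at h2
      rw [hx, one_smul, hp]
      have h3 : g x = x + z + (-g z) := by rw [← h2]; abel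
      rw [h3, T.neg_eq]; abel
  have hperp : ∀ a, l a = 0 → polar Q p a = 0 := by
    intro a ha
    rw [hp, polar_add_left]
    have h2 : polar Q (g z) a = polar Q z a := by
      conv_lhs => rw [← h a ha]
      exact polar_map hg _ _
    rw [h2, T.addF]
  have hl : ∀ x, polar Q p x = l x * polar Q p z := by
    intro x
    rcases T.f01 (l x) with hx | hx
    · rw [hx, zero_mul, hperp x hx]
    · have h1 : l (x + z) = 0 := by rw [map_add, hx, hlz, T.addF]
      have h2 := hperp _ h1
      rw [polar_add_right] at h2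
      rw [hx, one_mul]
      exact T.eqF_of_add h2
  have hpz : polar Q p z = 1 := by
    apply T.ne_zero
    intro h0
    apply hp0
    apply T.nondeg
    intro y
    rw [hl, h0, mul_zero]
  have hQp : Q p = 1 := by
    have h1 : g z = z + p := by rw [hgx, hlz, one_smul]
    have h2 := mem_O.1 hg z
    rw [h1, Q_add, polar_comm Q z p, hpz] at h2
    have h3 : Q p + 1 = 0 := by linear_combination h2
    exact T.eqF_of_add h3
  exact ⟨p, hQp, fun x => by rw [hgx x, hl x, hpz, mul_one]⟩

/-- `b(a, c) = f(a, δ c)` is well defined. -/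
theorem polar_wd (T : Two Q) {w : V ≃ₗ[F] V} (hw : w ∈ O Q) (ww : w * w = 1) {a a' c : V}
    (h : w a + a = w a' + a') : polar Q a (w c + c) = polar Q a' (w c + c) := by
  have h1 : w (a + a') = a + a' := by
    apply T.eq_of_add
    rw [map_add]
    calc w a + w a' + (a + a') = (w a + a) + (w a' + a') := by abel
      _ = 0 := by rw [h, T.add_self]
  have h2 : polar Q (a + a') (w c + c) = 0 := by
    rw [polar_comm]; exact polar_delta T hw ww h1
  rw [polar_add_left] at h2
  exact T.eqF_of_add h2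

/-- **rank 2**: if all `w x + x` are in the span of `p₁, p₂` (themselves of this form), `p₁ ≠ 0` singular, then
`w = S p₁ p₂`. -/
theorem eq_S_of_rank_two (T : Two Q) {w : V ≃ₗ[F] V} (hw : w ∈ O Q) (ww : w * w = 1) {p₁ p₂ y₁ y₂ : V}
    (h1 : w y₁ + y₁ = p₁) (h2 : w y₂ + y₂ = p₂) (hp1 : p₁ ≠ 0) (hQ : Q p₁ = 0)
    (hspan : ∀ x, ∃ a b : F, w x + x = a • p₁ + b • p₂) : w = S Q p₁ p₂ := by
  have h12 : polar Q p₁ p₂ = 0 := by rw [← h1, ← h2]; exact polar_delta_delta T hw ww _ _
  have e11 : polar Q y₁ p₁ = 0 := by rw [← h1, Q_delta' T hw, h1, hQ]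
  have e22 : polar Q y₂ p₂ = Q p₂ := by rw [← h2, Q_delta' T hw]
  have e21 : polar Q y₂ p₁ = polar Q y₁ p₂ := by
    rw [← h1, ← h2, ← polar_delta_symm hw ww, polar_comm]
  have hx : ∀ x a b, w x + x = a • p₁ + b • p₂ → polar Q x p₁ = b * polar Q y₁ p₂ ∧
      polar Q x p₂ = a * polar Q y₁ p₂ + b * Q p₂ := by
    intro x a b hx
    constructor
    · have : polar Q x p₁ = polar Q y₁ (a • p₁ + b • p₂) := by
        rw [← hx, ← polar_delta_symm hw ww, polar_comm, h1]
      rw [this, polar_add_right, polar_smul_right, polar_smul_right, e11]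
      simp
    · have : polar Q x p₂ = polar Q y₂ (a • p₁ + b • p₂) := by
        rw [← hx, ← polar_delta_symm hw ww, polar_comm, h2]
      rw [this, polar_add_right, polar_smul_right, polar_smul_right, e22, e21]
      simp
  have hk : polar Q y₁ p₂ = 1 := by
    apply T.ne_zero
    intro h0
    apply hp1
    apply T.nondeg
    intro x
    obtain ⟨a, b, hab⟩ := hspan x
    rw [polar_comm, (hx x a b hab).1, h0, mul_zero]
  ext x
  obtain ⟨a, b, hab⟩ := hspan x
  obtain ⟨h3, h4⟩ := hx x a b hab
  rw [hk, mul_one] at h3 h4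
  rw [S_apply T hQ h12, polar_comm Q p₁ x, polar_comm Q p₂ x, h3, h4]
  have h5 : w x = x + (a • p₁ + b • p₂) := by
    rw [← hab]
    calc w x = w x + (x + x) := by rw [T.add_self, add_zero]
      _ = x + (w x + x) := by abel
  rw [h5]
  have h6 : (a + b * Q p₂) • p₁ + (Q p₂ * b) • p₁ = a • p₁ := by
    rw [← add_smul]
    congr 1
    have := T.addF (b * Q p₂)
    linear_combination this
  calc x + (a • p₁ + b • p₂) = x + (((a + b * Q p₂) • p₁ + (Q p₂ * b) • p₁) + b • p₂) := by rw [h6]
    _ = _ := by abel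

end Cfsg.Agent.OddHalf.D4.Orth2
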