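import Mathlib
import Cfsg.Agent.OddHalf.D4.Orth2.Inv

/-!
# ODD, D4, `Ω^±_{2n}(2)`: the main lemma

`Ctl Q w x Y`: `w` is an involution of the subgroup `Y` of `C(w)`, normalised by `C(w)`, without long root elements;
`x ∈ O Q` commutes with `w` and `[C(w), x] ≤ Y`. `Ctl.fixV`: if `x` is trivial on the fixed space of `w` then
`x ∈ {1, w}` up to a transvection, if `Y` contains no Siegel element. `Ctl.gen`: the same without the condition
on the fixed space.
-/

set_option autoImplicit false

namespace Cfsg.Agent.OddHalf.D4.Orth2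

open QuadraticMap
open Cfsg.Agent.LieClassical.OrthCore Cfsg.Agent.LieClassical.OrthTrans Cfsg.Agent.LieClassical.OrthFinite

variable {F V : Type*} [Field F] [AddCommGroup V] [Module F V] {Q : QuadraticForm F V}

/-- See the file comment. -/
structure Ctl (Q : QuadraticForm F V) (w x : V ≃ₗ[F] V) (Y : Subgroup (V ≃ₗ[F] V)) : Prop where
  wE : w ∈ E Q
  ww : w * w = 1
  w1 : w ≠ 1
  xO : x ∈ O Q
  comm : x * w = w * x
  YE : Y ≤ E Q
  Yw : ∀ y ∈ Y, y * w = w * y
  wY : w ∈ Y
  nrm : ∀ g ∈ E Q, g * w = w * g → ∀ y ∈ Y, g * y * g⁻¹ ∈ Y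
  cm : ∀ g ∈ E Q, g * w = w * g → g * x * g⁻¹ * x⁻¹ ∈ Y
  noSig : ∀ i r : V, Q i = 0 → i ≠ 0 → polar Q i r = 0 → Q r = 0 → S Q i r ∈ Y → r = 0 ∨ r = i

/-- The conclusion. -/
def Cc (Q : QuadraticForm F V) (w x : V ≃ₗ[F] V) : Prop := x = 1 ∨ x = w ∨ Tv Q x ∨ Tv Q (x * w)

/-- `Y` contains no Siegel element. -/
def NoS (Q : QuadraticForm F V) (Y : Subgroup (V ≃ₗ[F] V)) : Prop :=
  ∀ i r : V, Q i = 0 → i ≠ 0 → polar Q i r = 0 → S Q i r ∈ Y → r = 0 ∨ r = i

theorem comm_iff {w g : V ≃ₗ[F] V} : g * w = w * g ↔ w * g * w⁻¹ = g := by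
  rw [mul_inv_eq_iff_eq_mul, eq_comm]

/-- `S i v` commutes with `w` if `w` fixes `i` and `v`. -/
theorem S_commute {w : V ≃ₗ[F] V} (hw : w ∈ O Q) {i v : V} (hi : w i = i) (hv : w v = v) :
    S Q i v * w = w * S Q i v := by
  rw [comm_iff, S_conj hw, hi, hv]

theorem Q_four {p q r s : V} (a b c d : F) (hp : Q p = 0) (hq : Q q = 0) (hr : Q r = 0) (hs : Q s = 0)
    (hpq : polar Q p q = 0) (hpr : polar Q p r = 0) (hps : polar Q p s = 0) (hqr : polar Q q r = 0)
    (hqs : polar Q q s = 0) (hrs : polar Q r s = 0) : Q ((a • p + b • q) + (c • r + d • s)) = 0 := by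
  simp only [Q_add, QuadraticMap.map_smul, polar_add_left, polar_add_right, polar_smul_left, polar_smul_right,
    hp, hq, hr, hs, hpq, hpr, hps, hqr, hqs, hrs, smul_zero, add_zero]

namespace Ctl

variable {w x : V ≃ₗ[F] V} {Y : Subgroup (V ≃ₗ[F] V)}

theorem wO (h : Ctl Q w x Y) : w ∈ O Q := E_le_O h.wE

theorem x_w (h : Ctl Q w x Y) (v : V) : x (w v) = w (x v) := by
  have := congrArg (fun g : V ≃ₗ[F] V => g v) h.comm
  exact this

/-- the commutator with a Siegel element -/
theorem cmS (T : Two Q) (h : Ctl Q w x Y) {i v : V} (hc : S Q i v * w = w * S Q i v) :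
    S Q i v * S Q (x i) (x v) ∈ Y := by
  have h1 := h.cm _ (S_mem i v) hc
  have h2 : S Q i v * x * (S Q i v)⁻¹ * x⁻¹ = S Q i v * S Q (x i) (x v) := by
    rw [S_inv T, mul_assoc, mul_assoc, ← mul_assoc x, S_conj h.xO]
  rwa [h2] at h1

/-- elements of `Y` are also controlled -/
theorem ofMem (h : Ctl Q w x Y) {y : V ≃ₗ[F] V} (hy : y ∈ Y) : Ctl Q w y Y where
  wE := h.wE
  ww := h.ww
  w1 := h.w1
  xO := E_le_O (h.YE hy)
  comm := h.Yw y hy
  YE := h.YE
  Yw := h.Yw
  wY := h.wY
  nrm := h.nrm
  cm := fun g hg hc => Y.mul_mem (h.nrm g hg hc y hy) (Y.inv_mem hy)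
  noSig := h.noSig

/-- **(a)** -/
theorem fixV (T : Two Q) (h : Ctl Q w x Y) (hS : NoS Q Y) (hfix : ∀ v, w v = v → x v = v) : Cc Q w x := by
  have hwO := h.wO
  have key : ∀ a, Q (w a + a) = 0 → x a = a ∨ x a = w a := by
    intro a ha
    by_cases h0 : w a + a = 0
    · left; exact hfix a (T.eq_of_add h0)
    have hpa : polar Q (w a + a) a = 0 := by rw [Q_delta T hwO, ha]
    have hc : S Q (w a + a) a * w = w * S Q (w a + a) a := by
      rw [comm_iff, S_conj hwO, delta_fix h.ww]
      have e : w a = a + (w a + a) := by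
        calc w a = w a + (a + a) := by rw [T.add_self, add_zero]
          _ = a + (w a + a) := by abel
      conv_lhs => rw [e]
      rw [← e]
      have := S_add_self T (w a + a) a
      rw [← e] at this
      exact this
    have h1 := h.cmS T hc
    rw [hfix _ (delta_fix h.ww a)] at h1
    have hpx : polar Q (w a + a) (x a) = 0 := by
      conv_lhs => rw [← hfix _ (delta_fix h.ww a)]
      rw [polar_map h.xO, hpa]
    rw [S_mul ha hpa hpx] at h1
    rcases hS _ _ ha h0 (by rw [polar_add_right, hpa, hpx, add_zero]) h1 with h2 | h2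
    · left; exact (T.eq_of_add h2).symm
    · right
      have : x a = (a + x a) + a := by
        calc x a = x a + (a + a) := by rw [T.add_self, add_zero]
          _ = (a + x a) + a := by abel
      rw [this, h2, add_assoc, T.add_self, add_zero]
  -- `x` is `1` or `w` on the kernel of `lam`
  have hor : (∀ a, Q (w a + a) = 0 → x a = a) ∨ (∀ a, Q (w a + a) = 0 → x a = w a) := by
    by_contra hcon
    push Not at hcon
    obtain ⟨⟨a, ha, ha'⟩, b, hb, hb'⟩ := hcon
    have hxa := (key a ha).resolve_left ha'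
    have hxb := (key b hb).resolve_right hb'
    have hab : Q (w (a + b) + (a + b)) = 0 := by
      have := (lam T hwO h.ww).map_add a b
      simp only [lam_apply] at this
      rw [this, ha, hb, add_zero]
    rcases key _ hab with h1 | h1
    · rw [map_add, hxa, hxb] at h1
      exact ha' (hxa.trans (add_right_cancel h1))
    · rw [map_add, map_add, hxa, hxb] at h1
      exact hb' (hxb.trans (add_left_cancel h1))
  rcases hor with h1 | h1
  · rcases one_or_tv T h.xO (lam T hwO h.ww) h1 with h2 | h2
    · exact Or.inl h2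
    · exact Or.inr (Or.inr (Or.inl h2))
  · have h3 : ∀ a, lam T hwO h.ww a = 0 → (x * w) a = a := by
      intro a ha
      rw [mulG_apply, h.x_w, h1 a ha, ww_apply h.ww]
    rcases one_or_tv T (mul_mem h.xO hwO) (lam T hwO h.ww) h3 with h2 | h2
    · right; left
      have h4 : x = w⁻¹ := eq_inv_of_mul_eq_one_left h2
      rw [h4]
      exact inv_eq_of_mul_eq_one_left h.ww
    · exact Or.inr (Or.inr (Or.inr h2))

/-- elements of `Y` trivial on the fixed space of `w` -/
theorem fixY (T : Two Q) (h : Ctl Q w x Y) (hS : NoS Q Y) {y : V ≃ₗ[F] V} (hy : y ∈ Y)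
    (hfix : ∀ v, w v = v → y v = v) : y = 1 ∨ y = w := by
  rcases (h.ofMem hy).fixV T hS hfix with h1 | h1 | h1 | h1
  · exact Or.inl h1
  · exact Or.inr h1
  · exact absurd (h.YE hy) (h1.notMem T)
  · exact absurd (mul_mem (h.YE hy) h.wE) (h1.notMem T)

/-- **(c)** -/
theorem fixV_of_two (T : Two Q) (h : Ctl Q w x Y) (hS : NoS Q Y) {i j : V} (hi : w i = i) (hj : w j = j)
    (hQi : Q i = 0) (hQj : Q j = 0) (hi0 : i ≠ 0) (hj0 : j ≠ 0) (hij : i ≠ j)
    (hpi : ∀ v, w v = v → polar Q i v = 0) (hpj : ∀ v, w v = v → polar Q j v = 0) (hxi : x i = i) (hxj : x j = j) :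
    ∀ v, w v = v → x v = v := by
  intro v hv
  have hxv : w (x v) = x v := by rw [← h.x_w, hv]
  have key : ∀ i, w i = i → Q i = 0 → i ≠ 0 → (∀ v, w v = v → polar Q i v = 0) → x i = i →
      v + x v = 0 ∨ v + x v = i := by
    intro i hi hQi hi0 hpi hxi
    have h1 := h.cmS T (S_commute h.wO hi hv)
    rw [hxi, S_mul hQi (hpi v hv) (hpi _ hxv)] at h1
    exact hS i _ hQi hi0 (by rw [polar_add_right, hpi v hv, hpi _ hxv, add_zero]) h1
  rcases key i hi hQi hi0 hpi hxi with h1 | h1
  · exact (T.eq_of_add h1).symm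
  · rcases key j hj hQj hj0 hpj hxj with h2 | h2
    · exact (T.eq_of_add h2).symm
    · exact absurd (h1.symm.trans h2) hij

/-- the fixed space of `w` is orthogonal to all `w a + a`; a Siegel element of such vectors is trivial on it -/
theorem S_fix (T : Two Q) (h : Ctl Q w x Y) {a b v : V} (hQ : Q (w a + a) = 0) (hv : w v = v) :
    S Q (w a + a) (w b + b) v = v := by
  rw [S_apply T hQ (polar_delta_delta T h.wO h.ww _ _), polar_delta T h.wO h.ww hv, polar_delta T h.wO h.ww hv]
  simp

/-- **(b)**, one line -/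
theorem line (T : Two Q) (h : Ctl Q w x Y) (hS : NoS Q Y) {a b : V} (hQa : Q (w a + a) = 0) (hQb : Q (w b + b) = 0)
    (hc : (∃ z, Q (w z + z) ≠ 0) ∨ polar Q a (w b + b) = 0) :
    S Q (w a + a) (w b + b) = S Q (x (w a + a)) (x (w b + b)) := by
  have hwO := h.wO
  have hxd : ∀ a, x (w a + a) = w (x a) + x a := by intro a; rw [map_add, h.x_w]
  have hc1 := S_commute (Q := Q) hwO (delta_fix h.ww a) (delta_fix h.ww b)
  have h1 := h.cmS T hc1
  have hQxa : Q (x (w a + a)) = 0 := by rw [mem_O.1 h.xO, hQa]
  have hQxb : Q (x (w b + b)) = 0 := by rw [mem_O.1 h.xO, hQb]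
  have hfix : ∀ v, w v = v → (S Q (w a + a) (w b + b) * S Q (x (w a + a)) (x (w b + b))) v = v := by
    intro v hv
    rw [mulG_apply, hxd, hxd, h.S_fix T (by rw [← hxd, hQxa]) hv, h.S_fix T hQa hv]
  rcases h.fixY T hS h1 hfix with h2 | h2
  · rw [mul_eq_one_iff_eq_inv, S_inv T] at h2
    exact h2
  exfalso
  rcases hc with ⟨z, hz⟩ | hc
  · -- the image of `w - 1` is totally singular
    apply hz
    have e1 : w z + z = (polar Q (x (w a + a)) z • x (w b + b) + polar Q (x (w b + b)) z • x (w a + a)) +
        (polar Q (w a + a) z • (w b + b) + polar Q (w b + b) z • (w a + a)) := by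
      have e2 : w z = (S Q (w a + a) (w b + b) * S Q (x (w a + a)) (x (w b + b))) z := by rw [h2]
      have e3 : ∀ u, S Q (w a + a) (w b + b) u = u + (polar Q (w a + a) u • (w b + b) +
          polar Q (w b + b) u • (w a + a)) := by
        intro u
        rw [S_apply T hQa (polar_delta_delta T hwO h.ww _ _), hQb, zero_mul, zero_smul, add_zero, add_assoc]
      have e4 : ∀ u, S Q (x (w a + a)) (x (w b + b)) u = u + (polar Q (x (w a + a)) u • x (w b + b) +
          polar Q (x (w b + b)) u • x (w a + a)) := by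
        intro u
        rw [S_apply T hQxa (by rw [polar_map h.xO]; exact polar_delta_delta T hwO h.ww _ _), hQxb, zero_mul,
          zero_smul, add_zero, add_assoc]
      rw [e2, mulG_apply, e3, e4]
      have hz1 : ∀ c u, polar Q (w c + c) (x (w u + u)) = 0 := by
        intro c u; rw [hxd]; exact polar_delta_delta T hwO h.ww _ _
      have e5 : polar Q (w a + a) (z + (polar Q (x (w a + a)) z • x (w b + b) +
          polar Q (x (w b + b)) z • x (w a + a))) = polar Q (w a + a) z := by
        rw [polar_add_right, polar_add_right, polar_smul_right, polar_smul_right, hz1, hz1]; simp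
      have e6 : polar Q (w b + b) (z + (polar Q (x (w a + a)) z • x (w b + b) +
          polar Q (x (w b + b)) z • x (w a + a))) = polar Q (w b + b) z := by
        rw [polar_add_right, polar_add_right, polar_smul_right, polar_smul_right, hz1, hz1]; simp
      rw [e5, e6]
      calc z + (polar Q (x (w a + a)) z • x (w b + b) + polar Q (x (w b + b)) z • x (w a + a)) +
            (polar Q (w a + a) z • (w b + b) + polar Q (w b + b) z • (w a + a)) + z
          = (z + z) + ((polar Q (x (w a + a)) z • x (w b + b) + polar Q (x (w b + b)) z • x (w a + a)) +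
            (polar Q (w a + a) z • (w b + b) + polar Q (w b + b) z • (w a + a))) := by abel
        _ = _ := by rw [T.add_self, zero_add]
    have hz1 : ∀ c u, polar Q (x (w u + u)) (w c + c) = 0 := by
      intro c u; rw [hxd]; exact polar_delta_delta T hwO h.ww _ _
    have hz2 : polar Q (x (w b + b)) (x (w a + a)) = 0 := by
      rw [polar_map h.xO]; exact polar_delta_delta T hwO h.ww _ _
    rw [e1]
    exact Q_four _ _ _ _ hQxb hQxa hQb hQa hz2 (hz1 _ _) (hz1 _ _) (hz1 _ _) (hz1 _ _)
      (polar_delta_delta T hwO h.ww _ _)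
  · -- `b(δa, δb) = 0`
    have hba : polar Q b (w a + a) = 0 := by rw [polar_comm, polar_delta_symm hwO h.ww, hc]
    have haa : polar Q (w a + a) a = 0 := by rw [Q_delta T hwO, hQa]
    have hbb : polar Q (w b + b) b = 0 := by rw [Q_delta T hwO, hQb]
    have hsa : S Q (w a + a) (w b + b) a = a := by
      rw [S_apply T hQa (polar_delta_delta T hwO h.ww _ _), haa, polar_comm Q (w b + b) a, hc]
      simp
    have hsb : S Q (w a + a) (w b + b) b = b := by
      rw [S_apply T hQa (polar_delta_delta T hwO h.ww _ _), polar_comm Q (w a + a) b, hba, hbb]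
      simp
    -- `w u = S' u` for `u = a, b`
    have h3 : S Q (x (w a + a)) (x (w b + b)) = S Q (w a + a) (w b + b) * w := by
      calc S Q (x (w a + a)) (x (w b + b)) = (S Q (w a + a) (w b + b) * S Q (w a + a) (w b + b)) *
            S Q (x (w a + a)) (x (w b + b)) := by rw [S_sq T, one_mul]
        _ = S Q (w a + a) (w b + b) * (S Q (w a + a) (w b + b) * S Q (x (w a + a)) (x (w b + b))) := mul_assoc _ _ _
        _ = _ := by rw [h2]
    have hcw : S Q (w a + a) (w b + b) * w = w * S Q (w a + a) (w b + b) := hc1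
    have hwa : S Q (x (w a + a)) (x (w b + b)) a = w a := by rw [h3, hcw, mulG_apply, hsa]
    have hwb : S Q (x (w a + a)) (x (w b + b)) b = w b := by rw [h3, hcw, mulG_apply, hsb]
    -- so `δ a`, `δ b` lie in the second line
    have e4 : ∀ u, S Q (x (w a + a)) (x (w b + b)) u = u + (polar Q (x (w a + a)) u • x (w b + b) +
        polar Q (x (w b + b)) u • x (w a + a)) := by
      intro u
      rw [S_apply T hQxa (by rw [polar_map h.xO]; exact polar_delta_delta T hwO h.ww _ _), hQxb, zero_mul,
        zero_smul, add_zero, add_assoc]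
    have hd : ∀ u, S Q (x (w a + a)) (x (w b + b)) u = w u → w u + u =
        polar Q (x (w a + a)) u • x (w b + b) + polar Q (x (w b + b)) u • x (w a + a) := by
      intro u hu
      rw [← hu, e4]
      calc u + (polar Q (x (w a + a)) u • x (w b + b) + polar Q (x (w b + b)) u • x (w a + a)) + u
          = (u + u) + (polar Q (x (w a + a)) u • x (w b + b) + polar Q (x (w b + b)) u • x (w a + a)) := by abel
        _ = _ := by rw [T.add_self, zero_add]
    have hda := hd a hwa
    have hdb := hd b hwb
    -- the two Siegel elements are equal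
    have hz2 : polar Q (x (w a + a)) (x (w b + b)) = 0 := by
      rw [polar_map h.xO]; exact polar_delta_delta T hwO h.ww _ _
    have hSS : S Q (w a + a) (w b + b) = 1 ∨ S Q (w a + a) (w b + b) = S Q (x (w a + a)) (x (w b + b)) := by
      set p := x (w a + a) with hp
      set q := x (w b + b) with hq
      have hqp : polar Q q p = 0 := by rw [polar_comm, hz2]
      have hQpq : Q (q + p) = 0 := by rw [Q_add, hQxa, hQxb, hqp]; simp
      have hpqp : polar Q p (q + p) = 0 := by rw [polar_add_right, hz2, T.polar_self, add_zero]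
      have hqqp : polar Q q (q + p) = 0 := by rw [polar_add_right, hqp, T.polar_self, add_zero]
      have f1 : S Q p (q + p) = S Q p q := S_add_self T p q
      have f2 : S Q (q + p) p = S Q p q := by rw [S_comm T hQpq hQxa (by rw [polar_comm, hpqp]), f1]
      have f3 : S Q q p = S Q p q := S_comm T hQxb hQxa hqp
      have f4 : S Q q (q + p) = S Q p q := by
        rw [add_comm, S_add_self, f3]
        exact T
      have f5 : S Q (q + p) q = S Q p q := by rw [S_comm T hQpq hQxb (by rw [polar_comm, hqqp]), f4]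
      rw [hda, hdb]
      rcases T.f01 (polar Q p a) with a1 | a1 <;> rcases T.f01 (polar Q q a) with a2 | a2 <;>
        rcases T.f01 (polar Q p b) with a3 | a3 <;> rcases T.f01 (polar Q q b) with a4 | a4 <;>
        rw [a1, a2, a3, a4] <;>
        simp only [zero_smul, one_smul, add_zero, zero_add, S_zero, S_self T, f1, f2, f3, f4, f5, true_or, or_true]
      all_goals
        left
        unfold S
        split_ifs with hh
        · ext v
          rw [siegel_apply]
          simp
        · rfl
    rcases hSS with h5 | h5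
    · rw [h5, one_mul] at h2
      have h6 : S Q (x (w a + a)) (x (w b + b)) = 1 := by
        have := S_conj h.xO (w a + a) (w b + b)
        rw [← this, h5]; group
      exact h.w1 (h2.symm.trans h6)
    · apply h.w1
      rw [← h2, ← h5, S_sq T]

end Ctl

end Cfsg.Agent.OddHalf.D4.Orth2
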