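import Mathlib
import Cfsg.Agent.OddHalf.D4.Orth2.Ctl

/-!
# ODD, D4, `Ω^±_{2n}(2)`: the main lemma if `Y` contains no Siegel element
-/

set_option autoImplicit false

namespace Cfsg.Agent.OddHalf.D4.Orth2

open QuadraticMap
open Cfsg.Agent.LieClassical.OrthCore Cfsg.Agent.LieClassical.OrthTrans Cfsg.Agent.LieClassical.OrthFinite

variable {F V : Type*} [Field F] [AddCommGroup V] [Module F V] {Q : QuadraticForm F V}

/-- dimension of the image of a hyperplane -/
theorem finrank_map_ker {W : Type*} [AddCommGroup W] [Module F W] [Module.Finite F V] (f : V →ₗ[F] W)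
    (l : V →ₗ[F] F) (U : Submodule F V) :
    Module.finrank F (U.map f) ≤ Module.finrank F ((U ⊓ LinearMap.ker l).map f) + 1 := by
  by_cases hl : ∀ u ∈ U, l u = 0
  · have : U ⊓ LinearMap.ker l = U := by
      rw [inf_eq_left]
      intro u hu
      exact LinearMap.mem_ker.2 (hl u hu)
    rw [this]; omega
  push Not at hl
  obtain ⟨z, hz, hlz⟩ := hl
  have hle : U.map f ≤ (U ⊓ LinearMap.ker l).map f ⊔ Submodule.span F {f z} := by
    rintro _ ⟨u, hu, rfl⟩
    have e : f u = f (u - (l u * (l z)⁻¹) • z) + (l u * (l z)⁻¹) • f z := by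
      rw [map_sub, map_smul, sub_add_cancel]
    rw [e]
    refine Submodule.add_mem_sup ⟨_, ⟨U.sub_mem hu (U.smul_mem _ hz), ?_⟩, rfl⟩
      (Submodule.smul_mem _ _ (Submodule.mem_span_singleton_self _))
    show _ ∈ (LinearMap.ker l : Submodule F V)
    rw [LinearMap.mem_ker, map_sub, map_smul, smul_eq_mul, mul_assoc, inv_mul_cancel₀ hlz, mul_one, sub_self]
  have h1 := Submodule.finrank_mono hle
  have h2 := Submodule.finrank_add_le_finrank_add_finrank ((U ⊓ LinearMap.ker l).map f) (Submodule.span F {f z})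
  have h3 : Module.finrank F (Submodule.span F {f z}) ≤ 1 := (finrank_span_le_card _).trans (by simp)
  omega

/-- a vector outside a span -/
theorem exists_notMem {n : ℕ} [Module.Finite F V] (J : Submodule F V) (s : Finset V) (hs : s.card ≤ n)
    (hJ : n < Module.finrank F J) : ∃ v ∈ J, v ∉ Submodule.span F (s : Set V) := by
  by_contra hcon
  push Not at hcon
  have h1 := Submodule.finrank_mono (show J ≤ Submodule.span F (s : Set V) from hcon)
  have h2 : Module.finrank F (Submodule.span F (s : Set V)) ≤ s.card := finrank_span_finset_le_card s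
  omega

/-- totally singular lines are determined by the long root element -/
theorem line_mem (T : Two Q) {i i' j j' : V} (hi : Q i = 0) (hi' : Q i' = 0) (hii : polar Q i i' = 0)
    (hj : Q j = 0) (hj' : Q j' = 0) (hjj : polar Q j j' = 0) (hj0 : j' ≠ 0) (hne : j' ≠ j)
    (h : S Q i i' = S Q j j') : j = 0 ∨ j = i ∨ j = i' ∨ j = i + i' := by
  obtain ⟨y, hy1, hy2⟩ := exists_sep' T hj0 hne
  have h1 : S Q j j' y = y + j := by
    rw [S_apply T hj hjj, hy1, hy2, hj']
    simp
  have h2 : S Q i i' y = y + (polar Q i y • i' + polar Q i' y • i) := by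
    rw [S_apply T hi hii, hi']
    simp [add_assoc]
  have h3 : j = polar Q i y • i' + polar Q i' y • i := by
    rw [h, h1] at h2
    exact add_left_cancel h2
  rw [h3]
  rcases T.f01 (polar Q i y) with h4 | h4 <;> rcases T.f01 (polar Q i' y) with h5 | h5 <;> rw [h4, h5] <;>
    simp [add_comm]

/-- an involution of `E Q` which is not a Siegel element has rank at least 4 -/
theorem four_le (T : Two Q) {w : V ≃ₗ[F] V} (hw : w ∈ E Q) (ww : w * w = 1) (w1 : w ≠ 1)
    (hS : ∀ i r : V, Q i = 0 → i ≠ 0 → polar Q i r = 0 → w ≠ S Q i r) :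
    4 ≤ Module.finrank F (LinearMap.range (dl w)) := by
  have := T.fin
  have hwO : w ∈ O Q := E_le_O hw
  have hdl : ∀ x, dl w x = w x + x := fun x => by rw [dl_apply, T.sub_eq]
  obtain ⟨k, hk⟩ := T.dick w hw
  by_contra hlt
  have hk2 : k = 0 ∨ k = 1 := by omega
  rcases hk2 with rfl | rfl
  · have h4 : LinearMap.range (dl w) = ⊥ := Submodule.finrank_eq_zero.mp (by omega)
    apply w1
    ext x
    have h5 : dl w x ∈ LinearMap.range (dl w) := ⟨x, rfl⟩
    rw [h4] at h5
    exact sub_eq_zero.mp h5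
  · -- a nonzero singular vector in the image
    have h1 : Module.finrank F ((⊤ : Submodule F V).map (dl w)) = 2 := by
      rw [Submodule.map_top]; omega
    have h2 := finrank_map_ker (dl w) (lam T hwO ww) ⊤
    rw [h1] at h2
    obtain ⟨p₁, hp1, hp1'⟩ := exists_notMem (n := 0) ((⊤ ⊓ LinearMap.ker (lam T hwO ww)).map (dl w)) ∅ (by simp)
      (by omega)
    obtain ⟨y₁, hy1, rfl⟩ := hp1
    have hQ : Q (w y₁ + y₁) = 0 := hy1.2
    have hp0 : w y₁ + y₁ ≠ 0 := by
      intro h0
      apply hp1'
      rw [hdl, h0]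
      exact Submodule.zero_mem _
    obtain ⟨p₂, hp2, hp2'⟩ := exists_notMem (n := 1) (LinearMap.range (dl w)) {dl w y₁} (by simp) (by omega)
    obtain ⟨y₂, rfl⟩ := hp2
    rw [Finset.coe_singleton] at hp2'
    refine hS _ (w y₂ + y₂) hQ hp0 (polar_delta_delta T hwO ww _ _)
      (eq_S_of_rank_two T hwO ww rfl rfl hp0 hQ ?_)
    -- the span
    have hspan : LinearMap.range (dl w) = Submodule.span F {dl w y₁, dl w y₂} := by
      have hle : Submodule.span F {dl w y₁, dl w y₂} ≤ LinearMap.range (dl w) := by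
        rw [Submodule.span_le]
        rintro _ (rfl | rfl)
        · exact ⟨_, rfl⟩
        · exact ⟨_, rfl⟩
      symm
      apply Submodule.eq_of_le_of_finrank_le hle
      have hlt2 : Submodule.span F {dl w y₁} < Submodule.span F {dl w y₁, dl w y₂} := by
        refine lt_of_le_of_ne (Submodule.span_mono (by intro x hx; exact Or.inl hx)) ?_
        intro heq
        apply hp2'
        rw [heq]
        exact Submodule.subset_span (Or.inr rfl)
      have h5 := Submodule.finrank_lt_finrank_of_lt hlt2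
      have h6 : Module.finrank F (Submodule.span F {dl w y₁}) = 1 := by
        apply finrank_span_singleton
        rw [hdl]; exact hp0
      omega
    intro x
    have h7 : dl w x ∈ Submodule.span F {dl w y₁, dl w y₂} := by
      rw [← hspan]; exact ⟨x, rfl⟩
    rw [Submodule.mem_span_pair] at h7
    obtain ⟨a, b, hab⟩ := h7
    refine ⟨a, b, ?_⟩
    rw [hdl, hdl, hdl] at hab
    exact hab.symm

namespace Ctl

variable {w x : V ≃ₗ[F] V} {Y : Subgroup (V ≃ₗ[F] V)}

/-- a subspace of dimension at least 3 on which `line` applies fixes `δ a` -/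
theorem fix_of_three (T : Two Q) (h : Ctl Q w x Y) (hS : NoS Q Y) {a : V} (hQa : Q (w a + a) = 0)
    (h0 : w a + a ≠ 0) (U : Submodule F V)
    (hU : ∀ y ∈ U, Q (w y + y) = 0 ∧ ((∃ z, Q (w z + z) ≠ 0) ∨ polar Q a (w y + y) = 0))
    (h3 : 3 ≤ Module.finrank F (U.map (dl w))) : x (w a + a) = w a + a := by
  classical
  have := T.fin
  have hwO := h.wO
  have hdl : ∀ x, dl w x = w x + x := fun x => by rw [dl_apply, T.sub_eq]
  obtain ⟨p, ⟨y', hy', rfl⟩, hp'⟩ := exists_notMem (n := 1) (U.map (dl w)) {dl w a} (by simp) (by omega)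
  obtain ⟨q, ⟨y'', hy'', rfl⟩, hq'⟩ := exists_notMem (n := 2) (U.map (dl w)) {dl w a, dl w y'}
    ((Finset.card_insert_le _ _).trans (by simp)) (by omega)
  rw [Finset.coe_singleton] at hp'
  rw [Finset.coe_insert, Finset.coe_singleton] at hq'
  rw [hdl] at hp' hq'
  rw [hdl, hdl] at hq'
  rw [hdl] at hp'
  have ma : w a + a ∈ Submodule.span F {w a + a, w y' + y'} := Submodule.subset_span (Or.inl rfl)
  have my : w y' + y' ∈ Submodule.span F {w a + a, w y' + y'} := Submodule.subset_span (Or.inr rfl)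
  have key : ∀ y ∈ U, w y + y ≠ 0 → w y + y ≠ w a + a →
      x (w a + a) = w a + a ∨ x (w a + a) = w y + y ∨ x (w a + a) = (w a + a) + (w y + y) := by
    intro y hy hy0 hne
    obtain ⟨hQy, hc⟩ := hU y hy
    have h1 := h.line T hS hQa hQy hc
    have h2 := line_mem T hQa hQy (polar_delta_delta T hwO h.ww _ _) (by rw [mem_O.1 h.xO, hQa])
      (by rw [mem_O.1 h.xO, hQy]) (by rw [polar_map h.xO]; exact polar_delta_delta T hwO h.ww _ _)
      (by
        intro h0'
        exact hy0 ((LinearEquiv.map_eq_zero_iff x).1 h0'))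
      (by
        intro h0'
        exact hne (x.injective h0')) h1
    rcases h2 with h2 | h2
    · exact absurd ((LinearEquiv.map_eq_zero_iff x).1 h2) h0
    · exact h2
  have hy0 : w y' + y' ≠ 0 := by
    intro h0'; apply hp'; rw [h0']; exact Submodule.zero_mem _
  have hya : w y' + y' ≠ w a + a := by
    intro h0'; apply hp'; rw [h0']; exact Submodule.mem_span_singleton_self _
  have hz0 : w y'' + y'' ≠ 0 := by
    intro h0'; apply hq'; rw [h0']; exact Submodule.zero_mem _
  have hza : w y'' + y'' ≠ w a + a := by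
    intro h0'; apply hq'; rw [h0']; exact ma
  have k1 := key y' hy' hy0 hya
  have k2 := key y'' hy'' hz0 hza
  rcases k1 with k1 | k1
  · exact k1
  rcases k2 with k2 | k2
  · exact k2
  exfalso
  apply hq'
  have e1 : x (w a + a) ∈ Submodule.span F {w a + a, w y' + y'} := by
    rcases k1 with k1 | k1
    · rw [k1]; exact my
    · rw [k1]; exact Submodule.add_mem _ ma my
  rcases k2 with k2 | k2
  · rw [← k2]; exact e1
  · have e2 : w y'' + y'' = (w a + a) + x (w a + a) := by
      rw [k2, ← add_assoc, T.add_self, zero_add]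
    rw [e2]
    exact Submodule.add_mem _ ma e1

/-- **The main lemma if `Y` contains no Siegel element.** -/
theorem gen (T : Two Q) (h : Ctl Q w x Y) (hS : NoS Q Y) : Cc Q w x := by
  have := T.fin
  have hwO := h.wO
  have hdl : ∀ x, dl w x = w x + x := fun x => by rw [dl_apply, T.sub_eq]
  have h4 : 4 ≤ Module.finrank F (LinearMap.range (dl w)) := by
    apply four_le T h.wE h.ww h.w1
    intro i r hi hi0 hir heq
    rcases hS i r hi hi0 hir (by rw [← heq]; exact h.wY) with h1 | h1
    · rw [h1, S_zero] at heq; exact h.w1 heq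
    · rw [h1, S_self T] at heq; exact h.w1 heq
  have hfix0 : ∀ a, Q (w a + a) = 0 → x (w a + a) = w a + a := by
    intro a hQa
    by_cases h0 : w a + a = 0
    · rw [h0, map_zero]
    by_cases hc : ∃ z, Q (w z + z) ≠ 0
    · refine h.fix_of_three T hS hQa h0 (⊤ ⊓ LinearMap.ker (lam T hwO h.ww)) ?_ ?_
      · intro y hy
        exact ⟨hy.2, Or.inl hc⟩
      · have h5 := finrank_map_ker (dl w) (lam T hwO h.ww) ⊤
        rw [Submodule.map_top] at h5
        omega
    · push Not at hc
      let l : V →ₗ[F] F := (polarBilin Q a).comp (dl w)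
      refine h.fix_of_three T hS hQa h0 (⊤ ⊓ LinearMap.ker l) ?_ ?_
      · intro y hy
        refine ⟨hc y, Or.inr ?_⟩
        have h6 : polar Q a (dl w y) = 0 := hy.2
        rwa [hdl] at h6
      · have h5 := finrank_map_ker (dl w) l ⊤
        rw [Submodule.map_top] at h5
        omega
  -- two vectors
  have h5 := finrank_map_ker (dl w) (lam T hwO h.ww) ⊤
  rw [Submodule.map_top] at h5
  obtain ⟨p, ⟨y', hy', rfl⟩, hp'⟩ := exists_notMem (n := 0) ((⊤ ⊓ LinearMap.ker (lam T hwO h.ww)).map (dl w)) ∅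
    (by simp) (by omega)
  obtain ⟨q, ⟨y'', hy'', rfl⟩, hq'⟩ := exists_notMem (n := 1) ((⊤ ⊓ LinearMap.ker (lam T hwO h.ww)).map (dl w))
    {dl w y'} (by simp) (by omega)
  rw [Finset.coe_singleton] at hq'
  rw [hdl] at hp' hq'
  rw [hdl] at hq'
  have hQ' : Q (w y' + y') = 0 := hy'.2
  have hQ'' : Q (w y'' + y'') = 0 := hy''.2
  have hi0 : w y' + y' ≠ 0 := by
    intro h0'; apply hp'; rw [h0']; exact Submodule.zero_mem _
  have hj0 : w y'' + y'' ≠ 0 := by
    intro h0'; apply hq'; rw [h0']; exact Submodule.zero_mem _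
  have hne : w y' + y' ≠ w y'' + y'' := by
    intro h0'; apply hq'; rw [h0']; exact Submodule.mem_span_singleton_self _
  exact h.fixV T hS (h.fixV_of_two T hS (delta_fix h.ww _) (delta_fix h.ww _) hQ' hQ'' hi0 hj0 hne
    (fun v hv => polar_delta T hwO h.ww hv) (fun v hv => polar_delta T hwO h.ww hv) (hfix0 _ hQ') (hfix0 _ hQ''))

end Ctl

end Cfsg.Agent.OddHalf.D4.Orth2
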