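import Mathlib
import Cfsg.Agent.OddHalf.D4.Orth2.Gen

/-!
# ODD, D4, `Ω^±_{2n}(2)`: the main lemma for a Siegel element `w = S i v`, `Q v = 1`
-/

set_option autoImplicit false

namespace Cfsg.Agent.OddHalf.D4.Orth2

open QuadraticMap
open Cfsg.Agent.LieClassical Cfsg.Agent.LieClassical.OrthCore Cfsg.Agent.LieClassical.OrthTrans
  Cfsg.Agent.LieClassical.OrthFinite

variable {F V : Type*} [Field F] [AddCommGroup V] [Module F V] {Q : QuadraticForm F V}

/-- `⟨i, v⟩^⊥⊥ = ⟨i, v⟩` -/
theorem perp_perp (T : Two Q) {i v s : V} (h : ∀ y, polar Q i y = 0 → polar Q v y = 0 → polar Q s y = 0) :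
    s = 0 ∨ s = i ∨ s = v ∨ s = i + v := by
  have h1 : polarBilin Q s ∈ Submodule.span F (Set.range ![polarBilin Q i, polarBilin Q v]) := by
    apply mem_span_of_iInf_ker_le_ker
    intro y hy
    rw [Submodule.mem_iInf] at hy
    exact h y (hy 0) (hy 1)
  rw [Matrix.range_cons, Matrix.range_cons, Matrix.range_empty, Set.union_empty, Set.singleton_union,
    Submodule.mem_span_pair] at h1
  obtain ⟨a, b, hab⟩ := h1
  have h2 : s = a • i + b • v := by
    apply T.eq_of_add
    apply T.nondeg
    intro y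
    have h3 := congrArg (fun f : V →ₗ[F] F => f y) hab
    have h4 : a • polar Q i y + b • polar Q v y = polar Q s y := h3
    rw [polar_add_left, polar_add_left, polar_smul_left, polar_smul_left, h4, T.addF]
  rw [h2]
  rcases T.f01 a with ha | ha <;> rcases T.f01 b with hb | hb <;> rw [ha, hb] <;> simp

/-- a vector orthogonal to `i, v`, not in `⟨i, v⟩` -/
theorem exists_out (T : Two Q) {i v : V} (hi0 : i ≠ 0) (hv0 : v ≠ 0) (hne : i ≠ v) :
    ∃ y, polar Q i y = 0 ∧ polar Q v y = 0 ∧ y ≠ 0 ∧ y ≠ i ∧ y ≠ v ∧ y ≠ i + v := by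
  obtain ⟨j, hj1, hj2⟩ := exists_sep' T hi0 hne
  obtain ⟨k, hk1, hk2⟩ := exists_sep' T hv0 hne.symm
  obtain ⟨y, hy0, hy⟩ := exists_perp_ne (Q := Q) ![i, v, j, k] (by have := T.dim; omega)
  have h0 : polar Q i y = 0 := hy 0
  have h1 : polar Q v y = 0 := hy 1
  have h2 : polar Q j y = 0 := hy 2
  have h3 : polar Q k y = 0 := hy 3
  refine ⟨y, h0, h1, hy0, ?_, ?_, ?_⟩
  · rintro rfl
    rw [polar_comm, hj2] at h2
    exact one_ne_zero h2
  · rintro rfl
    rw [polar_comm, hk2] at h3
    exact one_ne_zero h3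
  · rintro rfl
    rw [polar_comm, polar_add_left, hj1, hj2, add_zero] at h2
    exact one_ne_zero h2

/-- **the move**: for `s ∈ i^⊥ - ⟨i, v⟩`, some long root element `S a b` fixes `i`, `v` and moves `s` by a singular
vector `b' ∉ ⟨i⟩`, orthogonal to `i` and `v` -/
theorem exists_move (T : Two Q) {i v s : V} (hi : Q i = 0) (hi0 : i ≠ 0) (hv : Q v = 1) (hiv : polar Q i v = 0)
    (hs : polar Q i s = 0) (h0 : s ≠ 0) (h1 : s ≠ i) (h2 : s ≠ v) (h3 : s ≠ i + v) :
    ∃ a b b' : V, Q b' = 0 ∧ b' ≠ 0 ∧ b' ≠ i ∧ polar Q i b' = 0 ∧ polar Q v b' = 0 ∧ S Q a b i = i ∧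
      S Q a b v = v ∧ S Q a b s = s + b' := by
  have := T.finite
  have hv0 : v ≠ 0 := by
    rintro rfl
    rw [QuadraticMap.map_zero] at hv
    exact zero_ne_one hv
  have hne : i ≠ v := by
    rintro rfl
    rw [hi] at hv
    exact zero_ne_one hv
  -- the vector `a`
  have hexa : ∃ a, Q a = 0 ∧ polar Q i a = 0 ∧ polar Q v a = 0 ∧ polar Q s a = 1 := by
    by_contra hcon
    push Not at hcon
    have hall : ∀ a, Q a = 0 → polar Q i a = 0 → polar Q v a = 0 → polar Q s a = 0 := by
      intro a ha1 ha2 ha3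
      by_contra hne'
      exact hcon a ha1 ha2 ha3 (T.ne_zero hne')
    have hQs : ∀ y, polar Q i y = 0 → polar Q v y = 0 → polar Q s y = Q y * polar Q s v := by
      intro y hy1 hy2
      rcases T.f01 (Q y) with hy | hy
      · rw [hy, zero_mul]; exact hall y hy hy1 hy2
      · rw [hy, one_mul]
        have h4 := hall (y + v) (by rw [Q_add, hy, hv, polar_comm Q y v, hy2, T.addF, zero_add])
          (by rw [polar_add_right, hy1, hiv, add_zero]) (by rw [polar_add_right, hy2, T.polar_self, add_zero])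
        rw [polar_add_right] at h4
        exact T.eqF_of_add h4
    rcases T.f01 (polar Q s v) with hsv | hsv
    · rcases perp_perp T (s := s) (i := i) (v := v) (fun y hy1 hy2 => by
        rw [hQs y hy1 hy2, hsv, mul_zero]) with h | h | h | h
      · exact h0 h
      · exact h1 h
      · exact h2 h
      · exact h3 h
    · obtain ⟨y, hy1, hy2, hy3, hy4, hy5, hy6⟩ := exists_out T hi0 hv0 hne
      rcases perp_perp T (s := y) (i := i) (v := v) (fun y' hy1' hy2' => by
        have e1 := hQs y hy1 hy2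
        have e2 := hQs y' hy1' hy2'
        have e3 := hQs (y + y') (by rw [polar_add_right, hy1, hy1', add_zero])
          (by rw [polar_add_right, hy2, hy2', add_zero])
        rw [hsv, mul_one] at e1 e2 e3
        rw [polar_add_right, e1, e2, Q_add] at e3
        linear_combination -e3) with h | h | h | h
      · exact hy3 h
      · exact hy4 h
      · exact hy5 h
      · exact hy6 h
  obtain ⟨a, ha, hia, hva, hsa⟩ := hexa
  have ha0 : a ≠ 0 := by
    rintro rfl
    rw [polar_zero_right] at hsa
    exact zero_ne_one hsa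
  have hai : a ≠ i := by
    rintro rfl
    rw [polar_comm, hs] at hsa
    exact zero_ne_one hsa
  -- the vector `b`
  obtain ⟨j, hj1, hj2⟩ := exists_sep' T hi0 hai.symm
  obtain ⟨k, hk1, hk2⟩ := exists_sep' T ha0 hai
  obtain ⟨b, hb0, hb, hbp⟩ := exists_sing_perp (Q := Q) ![i, v, a, j, k] (by have := T.dim; omega)
  have hib : polar Q i b = 0 := hbp 0
  have hvb : polar Q v b = 0 := hbp 1
  have hab : polar Q a b = 0 := hbp 2
  have hjb : polar Q j b = 0 := hbp 3
  have hkb : polar Q k b = 0 := hbp 4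
  have hbi : b ≠ i := by
    rintro rfl
    rw [polar_comm, hj2] at hjb
    exact one_ne_zero hjb
  have hba : b ≠ a := by
    rintro rfl
    rw [polar_comm, hk2] at hkb
    exact one_ne_zero hkb
  have hbai : b ≠ a + i := by
    rintro rfl
    rw [polar_comm, polar_add_left, hj1, hj2, zero_add] at hjb
    exact one_ne_zero hjb
  refine ⟨a, b, b + polar Q b s • a, ?_, ?_, ?_, ?_, ?_, ?_, ?_, ?_⟩
  · rw [Q_add, QuadraticMap.map_smul, polar_smul_right, ha, hb, polar_comm Q b a, hab]
    simp
  · rcases T.f01 (polar Q b s) with hc | hc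
    · rw [hc, zero_smul, add_zero]; exact hb0
    · rw [hc, one_smul]
      intro h; exact hba (T.eq_of_add h)
  · rcases T.f01 (polar Q b s) with hc | hc
    · rw [hc, zero_smul, add_zero]; exact hbi
    · rw [hc, one_smul]
      intro h
      apply hbai
      rw [← h, add_comm b a, ← add_assoc, T.add_self, zero_add]
  · rw [polar_add_right, polar_smul_right, hib, hia]; simp
  · rw [polar_add_right, polar_smul_right, hvb, hva]; simp
  · rw [S_apply T ha hab, polar_comm Q a i, hia, polar_comm Q b i, hib]; simp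
  · rw [S_apply T ha hab, polar_comm Q a v, hva, polar_comm Q b v, hvb]; simp
  · rw [S_apply T ha hab, polar_comm Q a s, hsa, hb]; simp [add_assoc]

/-- elements trivial on `i^⊥/⟨i⟩` are Siegel elements -/
theorem exists_S_of_triv (T : Two Q) {i : V} (hi : Q i = 0) (hi0 : i ≠ 0) {g : V ≃ₗ[F] V} (hg : g ∈ O Q)
    (hgi : g i = i) (h : ∀ r, polar Q i r = 0 → r + g r = 0 ∨ r + g r = i) :
    ∃ s, polar Q i s = 0 ∧ g = S Q i s := by
  obtain ⟨j, hj⟩ := exists_hyp T.nondeg hi hi0
  have hij : polar Q i j = 1 := hj.pair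
  have hs : polar Q i (g j + j) = 0 := by
    rw [polar_add_right, hij]
    have h1 : polar Q i (g j) = 1 := by
      conv_lhs => rw [← hgi]
      rw [polar_map hg, hij]
    rw [h1, T.addF]
  have hsj : polar Q (g j + j) j = Q (g j + j) := Q_delta T hg j
  refine ⟨g j + j, hs, ?_⟩
  -- both sides agree on `i`, `j` and `⟨i, j⟩^⊥`
  have hSj : S Q i (g j + j) j = g j := by
    rw [S_apply T hi hs, hij, hsj, one_smul, mul_one]
    have h2 := T.smul_add_self (Q (g j + j)) i
    calc j + (g j + j) + Q (g j + j) • i + Q (g j + j) • i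
        = g j + (j + j) + (Q (g j + j) • i + Q (g j + j) • i) := by abel
      _ = g j := by rw [h2, T.add_self, add_zero, add_zero]
  have hSi : S Q i (g j + j) i = i := by
    rw [S_apply T hi hs, T.polar_self, polar_comm Q _ i, hs]
    simp
  have hSr : ∀ r, polar Q i r = 0 → polar Q j r = 0 → S Q i (g j + j) r = g r := by
    intro r hr1 hr2
    rw [S_apply T hi hs, hr1]
    simp only [zero_smul, mul_zero, add_zero]
    have h3 : polar Q (g j + j) r = polar Q (g j) r := by rw [polar_add_left, hr2, add_zero]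
    rw [h3]
    rcases h r hr1 with h4 | h4
    · have h5 : g r = r := (T.eq_of_add h4).symm
      have h6 : polar Q (g j) r = 0 := by
        conv_lhs => rw [← h5]
        rw [polar_map hg, hr2]
      rw [h6, h5, zero_smul, add_zero]
    · have h5 : g r = r + i := by
        rw [← h4, ← add_assoc, T.add_self, zero_add]
      have h6 : polar Q (g j) r = 1 := by
        have h7 : polar Q (g j) (g r) = 0 := by rw [polar_map hg, hr2]
        rw [h5, polar_add_right] at h7
        have h8 : polar Q (g j) i = 1 := by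
          conv_lhs => rw [← hgi]
          rw [polar_map hg, polar_comm, hij]
        rw [h8] at h7
        exact T.eqF_of_add h7
      rw [h6, h5, one_smul]
  ext y
  have e : y = polar Q j y • i + polar Q i y • j + OrthTrans.proj Q i j y := by rw [OrthTrans.proj]; module
  rw [e, map_add, map_add, map_smul, map_smul, map_add, map_add, map_smul, map_smul, hgi, hSi, hSj,
    hSr _ (polar_proj_left hj y) (polar_proj_right hj y)]

namespace Ctl

variable {x : V ≃ₗ[F] V} {Y : Subgroup (V ≃ₗ[F] V)}

/-- **The main lemma for `w = S i v`.** -/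
theorem siegelCase (T : Two Q) {i v : V} (hi : Q i = 0) (hi0 : i ≠ 0) (hv : Q v = 1) (hiv : polar Q i v = 0)
    (h : Ctl Q (S Q i v) x Y) : Cc Q (S Q i v) x := by
  have hwO := h.wO
  have hv0 : v ≠ 0 := by
    rintro rfl
    rw [QuadraticMap.map_zero] at hv
    exact zero_ne_one hv
  have hne : i ≠ v := by
    rintro rfl
    rw [hi] at hv
    exact zero_ne_one hv
  have hSi : S Q i v i = i := by
    rw [S_apply T hi hiv, T.polar_self, polar_comm Q v i, hiv]; simp
  -- elements commuting with `S i v`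
  have hcomm : ∀ g ∈ O Q, g i = i → g v = v → g * S Q i v = S Q i v * g := by
    intro g hg h1 h2
    have h3 := S_conj hg i v
    rw [h1, h2, mul_inv_eq_iff_eq_mul] at h3
    exact h3
  -- Claim A
  have hA : ∀ r, polar Q i r = 0 → S Q i r ∈ Y → r = 0 ∨ r = i ∨ r = v ∨ r = i + v := by
    intro r hr hrY
    by_contra hcon
    push Not at hcon
    obtain ⟨h0, h1, h2, h3⟩ := hcon
    obtain ⟨a, b, b', hb1, hb2, hb3, hb4, -, hgi, hgv, hgs⟩ := exists_move T hi hi0 hv hiv hr h0 h1 h2 h3
    have h4 := h.nrm _ (S_mem a b) (hcomm _ (S_memO a b) hgi hgv) _ hrY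
    rw [S_conj (S_memO a b), hgi, hgs] at h4
    have h5 := Y.mul_mem hrY h4
    rw [S_mul hi hr (by rw [polar_add_right, hr, hb4, add_zero]), ← add_assoc, T.add_self, zero_add] at h5
    rcases h.noSig i b' hi hi0 hb4 hb1 h5 with h6 | h6
    · exact hb2 h6
    · exact hb3 h6
  -- `x i = i`
  have hxi : x i = i := by
    have h1 : S Q (x i) (x v) = S Q i v := by
      rw [← S_conj h.xO, h.comm]; group
    obtain ⟨y, hy1, hy2⟩ := exists_sep' T hv0 hne.symm
    have h2 : S Q i v y = y + i := by
      rw [S_apply T hi hiv, hy1, hy2]; simp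
    have hxQ : Q (x i) = 0 := by rw [mem_O.1 h.xO, hi]
    have hxv : Q (x v) = 1 := by rw [mem_O.1 h.xO, hv]
    have hxp : polar Q (x i) (x v) = 0 := by rw [polar_map h.xO, hiv]
    have h3 : S Q (x i) (x v) y = y + (polar Q (x i) y • x v + (polar Q (x v) y + polar Q (x i) y) • x i) := by
      rw [S_apply T hxQ hxp, hxv, one_mul, add_smul]
      abel
    have h4 : i = polar Q (x i) y • x v + (polar Q (x v) y + polar Q (x i) y) • x i := by
      rw [h1, h2] at h3
      exact add_left_cancel h3
    have h5 : Q i = polar Q (x i) y := by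
      conv_lhs => rw [h4]
      rw [Q_add, QuadraticMap.map_smul, QuadraticMap.map_smul, polar_smul_left, polar_smul_right, hxQ, hxv,
        polar_comm Q (x v) (x i), hxp, T.sq]
      simp
    rw [hi] at h5
    rw [← h5, zero_smul, zero_add, add_zero] at h4
    rcases T.f01 (polar Q (x v) y) with h6 | h6
    · rw [h6, zero_smul] at h4; exact absurd h4 hi0
    · rw [h6, one_smul] at h4; exact h4.symm
  -- `r + x r ∈ ⟨i, v⟩`
  have hB : ∀ r, polar Q i r = 0 → r + x r = 0 ∨ r + x r = i ∨ r + x r = v ∨ r + x r = i + v := by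
    intro r hr
    have hxr : polar Q i (x r) = 0 := by
      conv_lhs => rw [← hxi]
      rw [polar_map h.xO, hr]
    have h1 : S Q i r * S Q i v = S Q i v * S Q i r := by
      rw [S_mul hi hr hiv, S_mul hi hiv hr, add_comm]
    have h2 := h.cmS T h1
    rw [hxi, S_mul hi hr hxr] at h2
    exact hA _ (by rw [polar_add_right, hr, hxr, add_zero]) h2
  have hC : ∀ r, polar Q i r = 0 → polar Q v r = 0 → r + x r = 0 ∨ r + x r = i := by
    intro r hr hvr
    have h4 : x r = r + (r + x r) := by rw [← add_assoc, T.add_self, zero_add]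
    have h5 : Q (x r) = Q r := mem_O.1 h.xO r
    rcases hB r hr with h1 | h1 | h1 | h1
    · exact Or.inl h1
    · exact Or.inr h1
    · exfalso
      rw [h4, h1, Q_add, hv, polar_comm Q r v, hvr] at h5
      have : (1 : F) = 0 := by linear_combination h5
      exact one_ne_zero this
    · exfalso
      rw [h4, h1, Q_add, Q_add, hv, hi, hiv, polar_add_right, polar_comm Q r v, hvr, polar_comm Q r i, hr] at h5
      have : (1 : F) = 0 := by linear_combination h5
      exact one_ne_zero this
  -- the two kinds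
  obtain ⟨r₁, hr1, hr2⟩ := exists_sep' T hv0 hne.symm
  have hv' : Q v ≠ 0 := by rw [hv]; exact one_ne_zero
  have ht : ∀ y, refl Q v hv' y = y + polar Q v y • v := by
    intro y
    rw [refl_apply, hv, inv_one, one_mul, T.sub_eq]
  have htO : refl Q v hv' ∈ O Q := refl_mem_O hv'
  have hti : refl Q v hv' i = i := by rw [ht, polar_comm, hiv, zero_smul, add_zero]
  have hTv : Tv Q (refl Q v hv') := ⟨v, hv, ht⟩
  -- the end, from `x = S i s` or `x = t (S i s)`
  have hD : ∀ s, polar Q i s = 0 → (x = S Q i s ∨ x = refl Q v hv' * S Q i s) →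
      s = 0 ∨ s = i ∨ s = v ∨ s = i + v := by
    intro s hs hxs
    by_contra hcon
    push Not at hcon
    obtain ⟨h0, h1, h2, h3⟩ := hcon
    obtain ⟨a, b, b', hb1, hb2, hb3, hb4, hb5, hgi, hgv, hgs⟩ := exists_move T hi hi0 hv hiv hs h0 h1 h2 h3
    have h4 := h.cm _ (S_mem a b) (hcomm _ (S_memO a b) hgi hgv)
    have h5 : S Q a b * S Q i s * (S Q a b)⁻¹ = S Q i s * S Q i b' := by
      rw [S_conj (S_memO a b), hgi, hgs, S_mul hi hs hb4]
    have h6 : S Q a b * x * (S Q a b)⁻¹ * x⁻¹ = S Q i b' := by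
      rcases hxs with rfl | hxs
      · rw [h5, S_inv T, S_mul hi hs hb4, S_mul hi (by rw [polar_add_right, hs, hb4, add_zero]) hs, add_comm s b',
          add_assoc, T.add_self, add_zero]
      · have h7 : S Q a b * refl Q v hv' * (S Q a b)⁻¹ = refl Q v hv' := by
          have h8 := refl_conj (S_memO a b) hv' (by rw [hgv]; exact hv')
          rw [h8]
          congr 1
        rw [hxs, mul_inv_rev, S_inv T i s]
        have h9 : S Q i s * S Q i b' * S Q i s = S Q i b' := by
          rw [S_mul hi hs hb4, S_mul hi (by rw [polar_add_right, hs, hb4, add_zero]) hs, add_comm s b',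
            add_assoc, T.add_self, add_zero]
        have h10 : refl Q v hv' * S Q i b' * (refl Q v hv')⁻¹ = S Q i b' := by
          rw [S_conj htO, hti, ht b', hb5, zero_smul, add_zero]
        calc S Q a b * (refl Q v hv' * S Q i s) * (S Q a b)⁻¹ * (S Q i s * (refl Q v hv')⁻¹)
            = (S Q a b * refl Q v hv' * (S Q a b)⁻¹) * (S Q a b * S Q i s * (S Q a b)⁻¹) * S Q i s *
              (refl Q v hv')⁻¹ := by group
          _ = refl Q v hv' * (S Q i s * S Q i b') * S Q i s * (refl Q v hv')⁻¹ := by rw [h7, h5]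
          _ = refl Q v hv' * (S Q i s * S Q i b' * S Q i s) * (refl Q v hv')⁻¹ := by group
          _ = _ := by rw [h9, h10]
    rw [h6] at h4
    rcases h.noSig i b' hi hi0 hb4 hb1 h4 with h7 | h7
    · exact hb2 h7
    · exact hb3 h7
  -- the Siegel elements `S i s`, `s ∈ ⟨i, v⟩`
  have hE : ∀ s, (s = 0 ∨ s = i ∨ s = v ∨ s = i + v) → S Q i s = 1 ∨ S Q i s = S Q i v := by
    rintro s (rfl | rfl | rfl | rfl)
    · exact Or.inl (S_zero _)
    · exact Or.inl (S_self T _)
    · exact Or.inr rfl
    · right; rw [add_comm, S_add_self T]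
  have hsum : ∀ r, polar Q v r ≠ 0 → r + x r = (r + r₁) + x (r + r₁) + (r₁ + x r₁) := by
    intro r _
    rw [map_add]
    calc r + x r = r + x r + (r₁ + r₁) + (x r₁ + x r₁) := by rw [T.add_self, T.add_self, add_zero, add_zero]
      _ = _ := by abel
  have hadd : ∀ r, polar Q i r = 0 → polar Q v r ≠ 0 → (r + r₁) + x (r + r₁) = 0 ∨ (r + r₁) + x (r + r₁) = i := by
    intro r hr hvr
    exact hC _ (by rw [polar_add_right, hr, hr1, add_zero]) (by
      rw [polar_add_right, hr2, T.ne_zero hvr, T.addF])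
  by_cases hα : r₁ + x r₁ = 0 ∨ r₁ + x r₁ = i
  · obtain ⟨s, hs, hxs⟩ := exists_S_of_triv T hi hi0 h.xO hxi (by
      intro r hr
      by_cases hvr : polar Q v r = 0
      · exact hC r hr hvr
      · rw [hsum r hvr]
        rcases hadd r hr hvr with h1 | h1 <;> rcases hα with h2 | h2 <;> rw [h1, h2]
        · left; simp
        · right; simp
        · right; simp
        · left; exact T.add_self _)
    rcases hE s (hD s hs (Or.inl hxs)) with h1 | h1
    · left; rw [hxs, h1]
    · right; left; rw [hxs, h1]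
  · have hβ : r₁ + x r₁ = v ∨ r₁ + x r₁ = i + v := by
      rcases hB r₁ hr1 with h1 | h1 | h1 | h1
      · exact absurd (Or.inl h1) hα
      · exact absurd (Or.inr h1) hα
      · exact Or.inl h1
      · exact Or.inr h1
    have htx : ∀ r, polar Q i r = 0 → r + (refl Q v hv' * x) r = 0 ∨ r + (refl Q v hv' * x) r = i := by
      -- on `⟨i, v⟩^⊥` and at `r₁`
      have hvx : ∀ r, polar Q i r = 0 → polar Q v (x r) = polar Q v r := by
        intro r hr
        have h4 : x r = r + (r + x r) := by rw [← add_assoc, T.add_self, zero_add]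
        rw [h4, polar_add_right]
        rcases hB r hr with h1 | h1 | h1 | h1 <;> rw [h1]
        · rw [polar_zero_right, add_zero]
        · rw [polar_comm Q v i, hiv, add_zero]
        · rw [T.polar_self, add_zero]
        · rw [polar_add_right, polar_comm Q v i, hiv, T.polar_self, add_zero, add_zero]
      have h5 : ∀ r, polar Q i r = 0 → r + (refl Q v hv' * x) r = (r + x r) + polar Q v r • v := by
        intro r hr
        rw [mulG_apply, ht, hvx r hr, ← add_assoc]
      intro r hr
      rw [h5 r hr]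
      by_cases hvr : polar Q v r = 0
      · rw [hvr, zero_smul, add_zero]; exact hC r hr hvr
      · rw [T.ne_zero hvr, one_smul, hsum r hvr]
        rcases hadd r hr hvr with h1 | h1 <;> rcases hβ with h2 | h2 <;> rw [h1, h2]
        · left; rw [zero_add, T.add_self]
        · right; rw [zero_add, add_assoc, T.add_self, add_zero]
        · right; rw [add_assoc, T.add_self, add_zero]
        · left; rw [← add_assoc, T.add_self, zero_add, T.add_self]
    obtain ⟨s, hs, hxs⟩ := exists_S_of_triv T hi hi0 (mul_mem htO h.xO) (by rw [mulG_apply, hxi, hti]) htx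
    have hxs' : x = refl Q v hv' * S Q i s := by
      rw [← hxs, ← mul_assoc, refl_mul_self, one_mul]
    rcases hE s (hD s hs (Or.inr hxs')) with h1 | h1
    · right; right; left
      rw [hxs', h1, mul_one]; exact hTv
    · right; right; right
      rw [hxs', h1, mul_assoc, S_sq T, mul_one]; exact hTv

/-- **The main lemma.** -/
theorem main (T : Two Q) {w : V ≃ₗ[F] V} (h : Ctl Q w x Y)
    (hS : NoS Q Y ∨ ∃ i v, Q i = 0 ∧ i ≠ 0 ∧ Q v = 1 ∧ polar Q i v = 0 ∧ w = S Q i v) : Cc Q w x := by
  rcases hS with hS | ⟨i, v, hi, hi0, hv, hiv, rfl⟩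
  · exact h.gen T hS
  · exact h.siegelCase T hi hi0 hv hiv

end Ctl

end Cfsg.Agent.OddHalf.D4.Orth2
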